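import Groth.Agent.Lib.StAlg16.Inertia
import Groth.Agent.Lib.StAlg16.LocPInst

/-! Locally quasi-finite relative inertia and quasi-DM morphisms. -/

universe u

open CategoryTheory CategoryTheory.Functor CategoryTheory.Limits AlgebraicGeometry Opposite

set_option linter.style.haveILetI false
set_option linter.unusedSectionVars false
set_option backward.isDefEq.respectTransparency false
set_option backward.isDefEq.respectTransparency.types false

namespace Groth.Agent.QDM14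

/-- a morphism locally of finite type is locally quasi-finite when its self base change is -/
theorem lqf_of_selfBaseChange {W T : Scheme.{u}} (k : W ⟶ T) [LocallyOfFiniteType k]
    (h : LocallyQuasiFinite (pullback.snd k k)) : LocallyQuasiFinite k := by
  have hex : ∀ w : W, ∃ (V : T.Opens) (U : W.Opens), IsAffineOpen V ∧ IsAffineOpen U ∧ U ≤ k ⁻¹ᵁ V ∧ w ∈ U := by
    intro w
    obtain ⟨V, hV, hwV, -⟩ := exists_isAffineOpen_mem_and_subset (X := T) (x := k w) (U := ⊤) trivial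
    obtain ⟨U, hU, hwU, hle⟩ := exists_isAffineOpen_mem_and_subset (X := W) (x := w) (U := k ⁻¹ᵁ V) hwV
    exact ⟨V, U, hV, hU, hle, hwU⟩
  choose V U hV hU hle hw using hex
  refine IsZariskiLocalAtSource.of_iSup_eq_top (P := @LocallyQuasiFinite) U
    (top_le_iff.1 fun w _ => TopologicalSpace.Opens.mem_iSup.2 ⟨w, hw w⟩) fun w => ?_
  haveI : IsAffine (U w).toScheme := hU w
  haveI : IsAffine (V w).toScheme := hV w
  set g := k.resLE (V w) (U w) (hle w) with hg
  have hgι : g ≫ (V w).ι = (U w).ι ≫ k := k.resLE_comp_ι (hle w)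
  rw [← hgι]
  haveI : LocallyOfFiniteType g := by rw [hg]; infer_instance
  suffices LocallyQuasiFinite g from inferInstance
  let m := pullback.map g g k k (U w).ι (U w).ι (V w).ι hgι hgι
  haveI : IsOpenImmersion m := inferInstance
  have hm : pullback.snd g g ≫ (U w).ι = m ≫ pullback.snd k k := (pullback.lift_snd _ _ _).symm
  haveI : LocallyQuasiFinite (pullback.snd g g ≫ (U w).ι) := by rw [hm]; infer_instance
  haveI : LocallyQuasiFinite (pullback.snd g g) := LocallyQuasiFinite.of_comp _ (U w).ι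
  refine LocallyQuasiFinite.of_finite_preimage_singleton _ fun x => ?_
  rcases (g ⁻¹' {x}).eq_empty_or_nonempty with he | ⟨s, hs⟩
  · rw [he]; exact Set.finite_empty
  refine (((pullback.snd g g).finite_preimage_singleton s).image (pullback.fst g g)).subset fun y hy => ?_
  obtain ⟨z, hz₁, hz₂⟩ := Scheme.Pullback.exists_preimage_pullback (f := g) (g := g) y s
    ((Set.mem_singleton_iff.1 hy).trans (Set.mem_singleton_iff.1 hs).symm)
  exact ⟨z, hz₂, hz₁⟩

theorem lqf_of_selfPullback {W T P : Scheme.{u}} {k : W ⟶ T} [LocallyOfFiniteType k] {p q : P ⟶ W}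
    (sq : IsPullback p q k k) (h : LocallyQuasiFinite q) : LocallyQuasiFinite k := by
  refine lqf_of_selfBaseChange k ?_
  rw [← sq.isoPullback_inv_snd]
  infer_instance

open Groth.Agent.FC16 Groth.Agent.StAlg Groth.Agent.AlgSpace AlgSp

variable {S : Scheme.{u}} {𝒳 𝒴 : AlgSt.Cat S}

/-- a representable morphism locally of finite type is locally quasi-finite when its self base change is -/
theorem with_lqf_of_selfBaseChange (h𝒳 : FibCat.IsFibGrpd 𝒳.p) (h𝒴 : FibCat.IsFibGrpd 𝒴.p) {g : 𝒳 ⥤ᵇ 𝒴}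
    (hg : AlgSt.RepByAlgSpWith (LocP @LocallyOfFiniteType) g)
    (h : AlgSt.RepByAlgSpWith (LocP (@LocallyQuasiFinite ⊓ @LocallyOfFiniteType)) (FibCat.fpFst g g)) :
    AlgSt.RepByAlgSpWith (LocP (@LocallyQuasiFinite ⊓ @LocallyOfFiniteType)) g := fun T y => by
  obtain ⟨G, a, e, he, ⟨i₀⟩, hra, hr⟩ := exists_rep_over h𝒳 h𝒴 (repByAlgSp1_of_with hg)
    (BasedFunctor.comp (AlgSt.toOverCat T) y)
  obtain ⟨hG, hGA⟩ := AlgSpace.isAlgSpaceP_of_repBySp a hra (AlgSpace.isAlgSpaceP_pyon T)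
  haveI := idFun_full (𝒳 := 𝒴)
  haveI := idFun_faithful (𝒳 := 𝒴)
  let A : (⟨G, hG⟩ : AlgSp.Sp S) ⟶ (AlgSp.yon S).obj T := ObjectProperty.homMk a
  have hT := IsAlgSpace.yon_obj T
  have hid : IsPullback (𝟙 G) a a (𝟙 (((AlgSp.yon S).obj T).obj)) := IsPullback.of_horiz_isIso ⟨by simp⟩
  have hAl : LocP @LocallyOfFiniteType A := (hr _ (preIso_of_pullback pbP_locP) hg _ _ _ hid).2.2
  obtain ⟨W, w, hwe, hws⟩ := hGA.atlas
  obtain ⟨k, hk⟩ := (AlgSp.yon S).map_surjective (w ≫ A)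
  have hW := IsAlgSpace.yon_obj W
  let P' := BasedFunctor.comp (AlgSt.ofOverCat W) (Stk.ofPshMap (P := ((AlgSp.yon S).obj W).obj) w.hom)
  let x : FibCat.overCat W ⥤ᵇ 𝒳 := BasedFunctor.comp (BasedFunctor.comp P' e) (FibCat.fpSnd _ g)
  have hk' : mapOf (BasedFunctor.comp (Stk.ofPshMap (P := ((AlgSp.yon S).obj W).obj) w.hom) (Stk.ofPshMap a)) =
      ((AlgSp.yon S).map k).hom := by
    rw [mapOf_comp, mapOf_ofPshMap, mapOf_ofPshMap, hk]; rfl
  let j : BasedFunctor.comp (BasedFunctor.comp P' (Stk.ofPshMap a)) (AlgSt.toOverCat T) ≅ AlgSt.overMap k :=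
    wlIso (AlgSt.ofOverCat W) (wrIso (isoMapOf _ ≪≫ eqToIso (congrArg Stk.ofPshMap hk')) (AlgSt.toOverCat T) ≪≫
      overMapIso k) ≪≫ wrIso (eqToIso (ofOver_toOver W)) (AlgSt.overMap k)
  let i : BasedFunctor.comp (AlgSt.overMap k) y ≅ BasedFunctor.comp x g :=
    wrIso j.symm y ≪≫ wlIso P' (wrIso i₀.symm (BasedFunctor.comp (AlgSt.toOverCat T) y)) ≪≫
      wlIso (BasedFunctor.comp P' e) (FibCat.fpIso (BasedFunctor.comp (AlgSt.toOverCat T) y) g)
  have h1 : RepOf (LocP (@LocallyQuasiFinite ⊓ @LocallyOfFiniteType))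
      (FibCat.fpFst (BasedFunctor.comp (AlgSt.overMap k) y) g) :=
    repOf_left i (repOf_of_equiv (pasteL_isEquivOver x g g) (Iso.refl _) (h W x))
  let y₀ : FibCat.overCat W ⥤ᵇ AlgSt.ofSch T := BasedFunctor.comp (AlgSt.overMap k) (AlgSt.ofOverCat T)
  have sq := IsPullback.of_hasPullback a ((AlgSp.yon S).map k).hom
  have hy : mapOf (BasedFunctor.comp (AlgSt.toOverCat W) y₀) = ((AlgSp.yon S).map k).hom := by
    ext T x; rfl
  have h2 : RepOf (LocP (@LocallyQuasiFinite ⊓ @LocallyOfFiniteType))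
      (FibCat.fpFst y₀ (FibCat.fpFst (BasedFunctor.comp (AlgSt.toOverCat T) y) g)) :=
    repOf_of_equiv' (pasteL_isEquivOver y₀ (BasedFunctor.comp (AlgSt.toOverCat T) y) g) (Iso.refl _) h1
  haveI := idFun_full (𝒳 := AlgSt.ofSch T)
  haveI := idFun_faithful (𝒳 := AlgSt.ofSch T)
  have hm : FibCat.IsEquivOver (fpMap (a := BasedFunctor.id (FibCat.overCat W)) (b := e)
      (s := BasedFunctor.id (AlgSt.ofSch T)) (F := y₀) (G := Stk.ofPshMap a) (F' := y₀)
      (G' := FibCat.fpFst (BasedFunctor.comp (AlgSt.toOverCat T) y) g) (Iso.refl _) i₀) :=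
    fpMap_isEquivOver (a := BasedFunctor.id (FibCat.overCat W)) (b := e)
      (s := BasedFunctor.id (AlgSt.ofSch T)) (F := y₀) (G := Stk.ofPshMap a) (F' := y₀)
      (G' := FibCat.fpFst (BasedFunctor.comp (AlgSt.toOverCat T) y) g) (Iso.refl _) i₀ isEquivOver_id he
  obtain ⟨hX, hXA, hXP⟩ := square_of_repOf (preIso_of_pullback pbP_locP) sq y₀ hy
    (repOf_of_equiv' hm (Iso.refl _) h2)
  have sqS : IsPullback (C := AlgSp.Sp S)
      (ObjectProperty.homMk (pullback.fst a ((AlgSp.yon S).map k).hom) :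
        (⟨_, hX⟩ : AlgSp.Sp S) ⟶ ⟨G, hG⟩)
      (ObjectProperty.homMk (pullback.snd a ((AlgSp.yon S).map k).hom)) A ((AlgSp.yon S).map k) :=
    IsPullback.of_map (sheafToPresheaf (AlgSp.J S) (Type (u + 1))) (ObjectProperty.hom_ext _ sq.w) sq
  have sqW := (IsPullback.of_hasPullback k k).map (AlgSp.yon S)
  let m := sqS.lift ((AlgSp.yon S).map (pullback.fst k k) ≫ w) ((AlgSp.yon S).map (pullback.snd k k))
    (by rw [Category.assoc, ← hk]; exact sqW.w)
  have sqm : IsPullback ((AlgSp.yon S).map (pullback.fst k k)) m w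
      (ObjectProperty.homMk (pullback.fst a ((AlgSp.yon S).map k).hom)) :=
    IsPullback.of_bot (by simpa [m, ← hk] using sqW) (by simp [m]) sqS
  have hq : LocP (@LocallyQuasiFinite ⊓ @LocallyOfFiniteType) ((AlgSp.yon S).map (pullback.snd k k)) := by
    rw [← sqS.lift_snd ((AlgSp.yon S).map (pullback.fst k k) ≫ w) ((AlgSp.yon S).map (pullback.snd k k))
      (by rw [Category.assoc, ← hk]; exact sqW.w)]
    exact AlgSpace.locP_comp (IsAlgSpace.yon_obj _) hXA hW
      (AlgSpace.locP_of_repWith hXA (AlgSpace.repWith_mono AlgSpace.EtaleLocal.etale_le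
        (AlgSpace.repWith_of_isPullback sqm hwe))) hXP
  have hkl : LocP @LocallyOfFiniteType ((AlgSp.yon S).map k) := by
    rw [hk]
    exact AlgSpace.locP_comp hW hGA hT (AlgSpace.locP_of_repWith hGA
      (AlgSpace.repWith_mono AlgSpace.EtaleLocal.etale_le hwe)) hAl
  haveI : LocallyOfFiniteType k.left := (StAlg16.locP_yon_iff k).1 hkl
  have hkq : LocallyQuasiFinite k.left :=
    lqf_of_selfPullback ((IsPullback.of_hasPullback k k).map (Over.forget S)) ((StAlg16.locP_yon_iff _).1 hq).1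
  have hA : LocP (@LocallyQuasiFinite ⊓ @LocallyOfFiniteType) A :=
    AlgSpace.locP_of_source_cover hT hwe hws
      (by rw [← hk]; exact (StAlg16.locP_yon_iff k).2 ⟨hkq, ‹LocallyOfFiniteType k.left›⟩)
  refine repOf_of_equiv (E := BasedFunctor.comp e (fpMap (a := AlgSt.toOverCat T) (b := BasedFunctor.id 𝒳)
      (s := BasedFunctor.id 𝒴) (F := BasedFunctor.comp (AlgSt.toOverCat T) y) (G := g) (F' := y) (G' := g)
      (Iso.refl _) (Iso.refl _))) (isEquivOver_comp he (fpMap_isEquivOver _ _ (toOverCat_isEquivOver T) isEquivOver_id))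
    ?_ (repOf_ofPsh_of a (h := hG) hGA hA)
  exact wrIso i₀ (AlgSt.toOverCat T)

/-- relative inertia locally quasi-finite iff quasi-DM -/
theorem lqf_inertia_iff (h𝒳 : AlgSt.IsAlgStack Scheme.fppfPrecoverage 𝒳)
    (h𝒴 : AlgSt.IsAlgStack Scheme.fppfPrecoverage 𝒴) (f : 𝒳 ⥤ᵇ 𝒴) :
    AlgSt.RepByAlgSpWith (LocP (@LocallyQuasiFinite ⊓ @LocallyOfFiniteType)) (FibCat.inertiaToBase f) ↔
      AlgSt.IsQuasiDMMor f := by
  have gX := h𝒳.isStack.1
  have gY := h𝒴.isStack.1
  haveI := FC16.isFibered gX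
  haveI := FC16.isFibered gY
  refine ⟨fun h => ?_, fun h => StAlg16.with_inertiaToBase gX gY h⟩
  exact with_lqf_of_selfBaseChange gX (FC16.fp_isFibGrpd gX gX gY f f) (StAlg.lft_diag h𝒳 h𝒴 f)
    ((with_congr (f := FibCat.fpFst (FibCat.diag f) (FibCat.diag f)) (f' := FibCat.inertiaToBase f)
      (a := StAlg16.inertiaDiag f) (b := BasedFunctor.id _) (StAlg16.inertiaDiag_isEquivOver f) isEquivOver_id
      (Iso.refl _)).2 h)

end Groth.Agent.QDM14
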